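import Mathlib
import Cfsg.Prelude.Def_SubgroupEmbedding
import Cfsg.Prelude.Def_Local
import Cfsg.Agent.Lib.MinimalNormal
import Cfsg.Agent.Lib.Components.Basic
import Cfsg.Agent.Lib.Components.GenFitting

/-!
A minimal counterexample to the Sidki pair statement is almost simple.
-/

set_option autoImplicit false

namespace Cfsg.Agent.Lib.SidkiMinimal

universe u

open Cfsg

variable {G : Type u} [Group G]

theorem conj_mem_of_normal {N : Subgroup G} (hN : N.Normal) (w : G) {x : G} (hx : x ∈ N) :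
    w * x * w⁻¹ ∈ N := hN.conj_mem x hx w

/-- An element of odd order whose square is in a subgroup is in that subgroup. -/
theorem mem_of_sq_mem {L : Subgroup G} {h : G} (ho : Odd (orderOf h)) (h2 : h ^ 2 ∈ L) : h ∈ L := by
  obtain ⟨m, hm⟩ := ho
  have : h = (h ^ 2) ^ (m + 1) := by
    rw [← pow_mul, show 2 * (m + 1) = orderOf h + 1 by omega, pow_add, pow_orderOf_eq_one]
    simp
  rw [this]
  exact pow_mem h2 _

/-- An element inverted by an element of a normal subgroup is in it if of odd order. -/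
theorem mem_of_inverted {L : Subgroup G} (hL : L.Normal) {h v : G} (hv : v ∈ L)
    (ho : Odd (orderOf h)) (hi : v * h * v⁻¹ = h⁻¹) : h ∈ L := by
  refine mem_of_sq_mem ho ?_
  have : h * (v * h⁻¹ * v⁻¹) = h ^ 2 := by
    rw [← conj_inv, hi, inv_inv, pow_two]
  rw [← this, ← mul_assoc, ← mul_assoc]
  exact mul_mem (conj_mem_of_normal hL h hv) (inv_mem hv)

/-- A dihedral lift: an involution inverting an element of odd order modulo a normal subgroup
inverts a preimage of odd order. -/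
theorem exists_inverted_lift [Finite G] {G' : Type u} [Group G'] (f : G →* G')
    (hf : Function.Surjective f) {v : G} (hv : v * v = 1) {h : G'} (ho : Odd (orderOf h))
    (hi : f v * h * (f v)⁻¹ = h⁻¹) :
    ∃ x : G, f x = h ∧ Odd (orderOf x) ∧ v * x * v⁻¹ = x⁻¹ := by
  obtain ⟨m, hm⟩ := ho
  obtain ⟨g, hg⟩ := hf (h ^ (m + 1))
  have hvinv : v⁻¹ = v := inv_eq_of_mul_eq_one_right hv
  set y := g * v * g⁻¹ * v with hy
  have hyi : v * y * v⁻¹ = y⁻¹ := by
    rw [hy]
    simp only [mul_inv_rev, inv_inv, hvinv, mul_assoc, hv, mul_one]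
  have hfy : f y = h := by
    have h1 : f v * (h ^ (m + 1))⁻¹ * (f v)⁻¹ = h ^ (m + 1) := by
      rw [← conj_inv, ← conj_pow, hi, inv_pow, inv_inv]
    have hfv : (f v)⁻¹ = f v := by rw [← map_inv, hvinv]
    calc f y = h ^ (m + 1) * (f v * (h ^ (m + 1))⁻¹ * (f v)⁻¹) := by
          rw [hy, map_mul, map_mul, map_mul, map_inv, hg, hfv]; simp only [mul_assoc]
      _ = h ^ (m + 1) * h ^ (m + 1) := by rw [h1]
      _ = h ^ orderOf h * h := by rw [hm, ← pow_succ, ← pow_add]; congr 1; omega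
      _ = h := by rw [pow_orderOf_eq_one, one_mul]
  obtain ⟨a, r, hr, har⟩ := Nat.exists_eq_two_pow_mul_odd (orderOf_pos y).ne'
  have hdvd : orderOf h ∣ r := by
    have : orderOf h ∣ 2 ^ a * r := har ▸ hfy ▸ orderOf_map_dvd f y
    exact (Nat.Coprime.pow_right a
      (Nat.coprime_two_right.mpr ⟨m, hm⟩)).dvd_of_dvd_mul_left this
  obtain ⟨e, he1, he2⟩ := Nat.chineseRemainder
    (Nat.Coprime.pow_right a (Nat.coprime_two_right.mpr hr)) 1 0
  refine ⟨y ^ e, ?_, ?_, ?_⟩
  · rw [map_pow, hfy]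
    conv_rhs => rw [← pow_one h]
    rw [pow_eq_pow_iff_modEq]
    exact he1.of_dvd hdvd
  · refine hr.of_dvd_nat (orderOf_dvd_of_pow_eq_one ?_)
    rw [← pow_mul, ← orderOf_dvd_iff_pow_eq_one, har]
    exact Nat.mul_dvd_mul (Nat.modEq_zero_iff_dvd.mp he2) dvd_rfl
  · rw [← conj_pow, hyi, inv_pow]

theorem elem_comm {V : Subgroup G} (hV : IsElementaryAbelian 2 V) {a b : G} (ha : a ∈ V)
    (hb : b ∈ V) : a * b = b * a := by
  have := hV.1
  exact setLike_mul_comm ha hb

theorem elem_sq {V : Subgroup G} (hV : IsElementaryAbelian 2 V) {a : G} (ha : a ∈ V) :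
    a * a = 1 := by
  rw [← pow_two]; exact hV.2 a ha

theorem elem_of_le {V W : Subgroup G} (hV : IsElementaryAbelian 2 V) (h : W ≤ V) :
    IsElementaryAbelian 2 W :=
  ⟨⟨⟨fun a b => Subtype.ext (elem_comm hV (h a.2) (h b.2))⟩⟩, fun a ha => hV.2 a (h ha)⟩

theorem elem_subgroupOf {V H : Subgroup G} (hV : IsElementaryAbelian 2 V) :
    IsElementaryAbelian 2 (V.subgroupOf H) :=
  ⟨⟨⟨fun a b => Subtype.ext (Subtype.ext (elem_comm hV a.2 b.2))⟩⟩,
    fun a ha => Subtype.ext (by simpa using hV.2 _ ha)⟩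

theorem sidki_subgroupOf {V H : Subgroup G} (hVH : V ≤ H) (hS : IsSidkiPair V) :
    IsSidkiPair (V.subgroupOf H) := by
  intro h v hv ho hi
  obtain ⟨w, hw, hw1, hwc⟩ := hS h v hv (by rwa [Subgroup.orderOf_coe])
    (by simpa using congrArg Subtype.val hi)
  exact ⟨⟨w, hVH hw⟩, hw, fun e => hw1 (congrArg Subtype.val e), Subtype.ext hwc⟩

theorem card_lt_of_ne_top [Finite G] {H : Subgroup G} (h : H ≠ ⊤) : Nat.card H < Nat.card G :=
  lt_of_le_of_ne H.card_le_card_group fun e => h (H.eq_top_of_card_eq e)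

end Cfsg.Agent.Lib.SidkiMinimal
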