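import Mathlib
import Cfsg.Agent.Lib.SidkiMinimal.Basic
import Cfsg.Agent.Lib.PSolvable.Core

/-!
The minimal normal subgroup of a minimal counterexample to the Sidki pair statement is simple.
-/

set_option autoImplicit false

namespace Cfsg.Agent.Lib.SidkiMinimal

universe u

open Cfsg Cfsg.Agent.Lib
open scoped Pointwise

variable {G : Type u} [Group G] [Finite G] {V : Subgroup G}

/-- The hypotheses of a minimal counterexample. -/
structure Hyp (V : Subgroup G) : Prop where
  elem : IsElementaryAbelian 2 V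
  ne : V ≠ ⊥
  sidki : IsSidkiPair V
  core : V ⊓ pCore 2 G = ⊥
  minG : ∀ (H : Type u) [Group H] [Finite H] (W : Subgroup H), Nat.card H < Nat.card G →
    IsElementaryAbelian 2 W → W ≠ ⊥ → IsSidkiPair W → W ⊓ pCore 2 H ≠ ⊥
  minV : ∀ W : Subgroup G, Nat.card W < Nat.card V → IsElementaryAbelian 2 W → W ≠ ⊥ →
    IsSidkiPair W → W ⊓ pCore 2 G ≠ ⊥

theorem exists_inf_ne_one {A B : Subgroup G} (h : A ⊓ B ≠ ⊥) : ∃ r ∈ A, r ∈ B ∧ r ≠ 1 := by
  obtain ⟨r, hr, hr1⟩ := A ⊓ B |>.bot_or_exists_ne_one.resolve_left h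
  exact ⟨r, hr.1, hr.2, hr1⟩

theorem quotient_elem (hV : IsElementaryAbelian 2 V) (N : Subgroup G) [N.Normal] :
    IsElementaryAbelian 2 (V.map (QuotientGroup.mk' N)) := by
  refine ⟨⟨⟨?_⟩⟩, ?_⟩
  · rintro ⟨_, a, ha, rfl⟩ ⟨_, b, hb, rfl⟩
    refine Subtype.ext ?_
    show QuotientGroup.mk' N a * QuotientGroup.mk' N b = QuotientGroup.mk' N b * QuotientGroup.mk' N a
    rw [← map_mul, ← map_mul, elem_comm hV ha hb]
  · rintro _ ⟨a, ha, rfl⟩
    rw [← map_pow, hV.2 a ha, map_one]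

theorem quotient_sidki (hV : IsElementaryAbelian 2 V) (hS : IsSidkiPair V) (N : Subgroup G)
    [N.Normal] (hN : V ⊓ N = ⊥) : IsSidkiPair (V.map (QuotientGroup.mk' N)) := by
  rintro h _ ⟨v, hv, rfl⟩ ho hi
  obtain ⟨x, rfl, hxo, hxi⟩ := exists_inverted_lift (QuotientGroup.mk' N)
    (QuotientGroup.mk'_surjective N) (elem_sq hV hv) ho hi
  obtain ⟨w, hw, hw1, hwc⟩ := hS x v hv hxo hxi
  refine ⟨_, Subgroup.mem_map_of_mem _ hw, fun e => hw1 ?_, by rw [← map_mul, hwc, map_mul]⟩
  rw [← Subgroup.mem_bot, ← hN]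
  exact ⟨hw, (QuotientGroup.eq_one_iff w).mp e⟩

theorem quotient_ne_bot (hne : V ≠ ⊥) (N : Subgroup G) [N.Normal] (hN : V ⊓ N = ⊥) :
    V.map (QuotientGroup.mk' N) ≠ ⊥ := by
  rw [Ne, Subgroup.map_eq_bot_iff, QuotientGroup.ker_mk']
  intro h
  exact hne (by rw [← hN, inf_eq_left.mpr h])

theorem card_quotient_lt {N : Subgroup G} [N.Normal] (hN : N ≠ ⊥) :
    Nat.card (G ⧸ N) < Nat.card G := by
  rw [Subgroup.card_eq_card_quotient_mul_card_subgroup N]
  exact lt_mul_of_one_lt_right Nat.card_pos (N.one_lt_card_iff_ne_bot.mpr hN)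

/-- The image in `G` of the 2-core of a subgroup `H`. -/
theorem conj_mem_core {H : Subgroup G} {h x : G} (hh : h ∈ H)
    (hx : x ∈ (pCore 2 H).map H.subtype) : h * x * h⁻¹ ∈ (pCore 2 H).map H.subtype := by
  obtain ⟨y, hy, rfl⟩ := hx
  have := PSolvable.pCore_characteristic (p := 2) (G := H)
  exact ⟨⟨h, hh⟩ * y * ⟨h, hh⟩⁻¹, Subgroup.Normal.conj_mem inferInstance y hy _, by simp⟩

/-- A 2-subgroup normalised by a subgroup with trivial 2-core containing it is trivial. -/
theorem eq_bot_of_normalized {L T : Subgroup G} (hL : pCore 2 L = ⊥) (hTL : T ≤ L)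
    (hT : IsPGroup 2 T) (hn : ∀ l ∈ L, ∀ t ∈ T, l * t * l⁻¹ ∈ T) : T = ⊥ := by
  have : (T.subgroupOf L).Normal := ⟨fun t ht g => by
    simpa [Subgroup.mem_subgroupOf] using hn g g.2 _ ht⟩
  have h1 : T.subgroupOf L ≤ pCore 2 L := PSolvable.le_pCore hT.comap_subtype
  rw [hL] at h1
  rw [eq_bot_iff]
  intro t ht
  exact congrArg Subtype.val (Subgroup.mem_bot.mp (h1 (show (⟨t, hTL ht⟩ : L) ∈ T.subgroupOf L from ht)))

/-- An element of the 2-core of `H` centralises a subgroup of `H` normalised by `H` with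
trivial 2-core. -/
theorem core_commute {H L : Subgroup G} (hLH : L ≤ H) (hL : pCore 2 L = ⊥)
    (hn : ∀ h ∈ H, ∀ l ∈ L, h * l * h⁻¹ ∈ L) :
    (pCore 2 H).map H.subtype ⊓ L = ⊥ ∧
    ∀ r ∈ (pCore 2 H).map H.subtype, ∀ l ∈ L, r * l = l * r := by
  have hb : (pCore 2 H).map H.subtype ⊓ L = ⊥ :=
    eq_bot_of_normalized hL inf_le_right
      ((PSolvable.pCore_isPGroup.map H.subtype).to_le inf_le_left)
      fun l hl t ht => ⟨conj_mem_core (hLH hl) ht.1, L.mul_mem (L.mul_mem hl ht.2) (L.inv_mem hl)⟩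
  refine ⟨hb, fun r hr l hl => ?_⟩
  have : r * l * r⁻¹ * l⁻¹ ∈ (pCore 2 H).map H.subtype ⊓ L := by
    refine ⟨?_, L.mul_mem (hn r (Subgroup.map_subtype_le _ hr) l hl) (L.inv_mem hl)⟩
    rw [mul_assoc r, mul_assoc]
    exact Subgroup.mul_mem _ hr (conj_mem_core (hLH hl) (Subgroup.inv_mem _ hr))
  rw [hb, Subgroup.mem_bot] at this
  exact mul_inv_eq_iff_eq_mul.mp (mul_inv_eq_one.mp this)

theorem pCore_normal_eq_bot (h : pCore 2 G = ⊥) (N : Subgroup G) [N.Normal] :
    pCore 2 N = ⊥ := by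
  rw [← Subgroup.map_eq_bot_iff_of_injective _ N.subtype_injective,
    PSolvable.map_subtype_pCore_of_normal, h, bot_inf_eq]

namespace Hyp

variable (P : Hyp V)
include P

theorem pCore_eq_bot : pCore 2 G = ⊥ := by
  by_contra hQ
  have := PSolvable.pCore_characteristic (p := 2) (G := G)
  exact P.minG _ _ (card_quotient_lt hQ) (quotient_elem P.elem _)
    (quotient_ne_bot P.ne _ P.core) (quotient_sidki P.elem P.sidki _ P.core)
    (by rw [PSolvable.pCore_quotient_eq_bot, inf_bot_eq])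

/-- In a proper subgroup, a Sidki pair meets the 2-core. -/
theorem exists_mem_core {H W : Subgroup G} (hH : H ≠ ⊤) (hWH : W ≤ H) (hWV : W ≤ V)
    (hW : W ≠ ⊥) (hS : IsSidkiPair (W.subgroupOf H)) :
    ∃ r ∈ W, r ∈ (pCore 2 H).map H.subtype ∧ r ≠ 1 := by
  obtain ⟨r, hr, hr', hr1⟩ := exists_inf_ne_one (P.minG H (W.subgroupOf H)
    (card_lt_of_ne_top hH) (elem_subgroupOf (elem_of_le P.elem hWV))
    (fun e => hW (Subgroup.subgroupOf_eq_bot.mp e |>.eq_bot_of_le hWH)) hS)
  exact ⟨r, hr, Subgroup.mem_map_of_mem _ hr', fun e => hr1 (Subtype.ext e)⟩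

/-- A proper subgroup of `V` has a witness against the Sidki condition. -/
theorem exists_witness {K : Subgroup G} (hKV : K ≤ V) (hne : K ≠ V) (hK : K ≠ ⊥) :
    ∃ h v : G, v ∈ K ∧ Odd (orderOf h) ∧ v * h * v⁻¹ = h⁻¹ ∧
      ∀ w ∈ K, w * h = h * w → w = 1 := by
  have hlt : Nat.card K < Nat.card V :=
    lt_of_le_of_ne (Subgroup.card_le_of_le hKV) fun e =>
      hne (Subgroup.eq_of_le_of_card_ge hKV e.ge)
  by_contra hno
  push Not at hno
  refine P.minV K hlt (elem_of_le P.elem hKV) hK (fun h v hv ho hi => ?_)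
    (by rw [P.pCore_eq_bot, inf_bot_eq])
  obtain ⟨w, hw, hwc, hw1⟩ := hno h v hv ho hi
  exact ⟨w, hw, hw1, hwc⟩

theorem inv_eq {v : G} (hv : v ∈ V) : v⁻¹ = v :=
  inv_eq_of_mul_eq_one_right (elem_sq P.elem hv)

theorem vconj {v : G} (hv : v ∈ V) (x : G) : v * (v * x * v⁻¹) * v⁻¹ = x := by
  rw [P.inv_eq hv]
  simp only [← mul_assoc, elem_sq P.elem hv, one_mul]
  rw [mul_assoc, elem_sq P.elem hv, mul_one]

/-- No minimal normal subgroup is abelian. -/
theorem not_comm {N : Subgroup G} (hN : N.Normal) (hN1 : N ≠ ⊥)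
    (hmin : ∀ M : Subgroup G, M.Normal → M ≤ N → M = ⊥ ∨ M = N) :
    ¬ IsMulCommutative N := by
  intro hc
  have := Group.isSolvable_of_comm (G := N) fun a b => mul_comm' a b
  obtain ⟨-, p, hp, hexp⟩ := MinimalNormal.elementaryAbelian N hN1 hmin
  have := Fact.mk hp
  have hcore := P.pCore_eq_bot
  have hp2 : p ≠ 2 := by
    rintro rfl
    refine hN1 (le_bot_iff.mp (hcore ▸ PSolvable.le_pCore ?_))
    exact fun x => ⟨1, Subtype.ext (by simpa using hexp x x.2)⟩
  have hodd : ∀ {x : G}, x ∈ N → Odd (orderOf x) := fun hx =>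
    (hp.odd_of_ne_two hp2).of_dvd_nat (orderOf_dvd_of_pow_eq_one (hexp _ hx))
  have hsq : ∀ {x : G}, x ∈ N → x * x = 1 → x = 1 := by
    intro x hx hxx
    obtain ⟨m, hm⟩ := hodd hx
    calc x = x ^ (2 * m + 1) := by rw [pow_succ, pow_mul, pow_two, hxx, one_pow, one_mul]
      _ = 1 := by rw [← hm, pow_orderOf_eq_one]
  have hVN : V ⊓ N = ⊥ := by
    rw [eq_bot_iff]
    intro x hx
    exact hsq hx.2 (elem_sq P.elem hx.1)
  set C := Subgroup.centralizer (N : Set G) with hC
  have hNC : N ≤ C := fun x hx => Subgroup.mem_centralizer_iff.mpr fun y hy =>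
    setLike_mul_comm hy hx
  set π := QuotientGroup.mk' N with hπ
  -- an element of `V` in the preimage of the 2-core of the quotient
  obtain ⟨_, ⟨v, hv, rfl⟩, hvO, hv1⟩ := exists_inf_ne_one (P.minG _ _ (card_quotient_lt hN1)
    (quotient_elem P.elem N) (quotient_ne_bot P.ne N hVN) (quotient_sidki P.elem P.sidki N hVN))
  have hv1' : v ≠ 1 := fun e => hv1 (by rw [e, map_one])
  have hQn : (pCore 2 (G ⧸ N)).Normal := by
    have := PSolvable.pCore_characteristic (p := 2) (G := G ⧸ N); infer_instance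
  set X := (pCore 2 (G ⧸ N)).comap π ⊓ C with hX
  have hXn : X.Normal := by
    have := hQn.comap π
    rw [hX]; infer_instance
  have hNX : N ≤ X := le_inf (fun x hx => by
    show π x ∈ pCore 2 (G ⧸ N)
    rw [show π x = 1 from (QuotientGroup.eq_one_iff x).mpr hx]; exact one_mem _) hNC
  have h2el : ∀ y ∈ X, ∃ a : ℕ, y ^ (2 ^ a) ∈ N := by
    intro y hy
    obtain ⟨a, ha⟩ := (PSolvable.pCore_isPGroup (p := 2) (G := G ⧸ N)) ⟨π y, hy.1⟩
    refine ⟨a, (QuotientGroup.eq_one_iff _).mp ?_⟩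
    show π (y ^ (2 ^ a)) = 1
    rw [map_pow]
    exact congrArg Subtype.val ha
  have hXeq : X ≤ N := by
    -- the Sylow 2-subgroup of `X` is normal, hence trivial
    obtain ⟨S⟩ : Nonempty (Sylow 2 X) := inferInstance
    have hSn : (S : Subgroup X).Normal := by
      rw [← Subgroup.normalizer_eq_top_iff, eq_top_iff]
      intro y _
      obtain ⟨a, ha⟩ := h2el y y.2
      -- `y` has odd and even parts
      obtain ⟨a', r, hr, har⟩ := Nat.exists_eq_two_pow_mul_odd (orderOf_pos y).ne'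
      have hsup : ∀ z : X, (z : G) ∈ N → z ∈ Subgroup.normalizer ((S : Subgroup X) : Set X) := by
        intro z hz
        rw [Subgroup.mem_normalizer_iff]
        intro s
        have : z * s * z⁻¹ = s := Subtype.ext (by
          simp only [Subgroup.coe_mul, Subgroup.coe_inv]
          rw [Subgroup.mem_centralizer_iff.mp s.2.2 z hz, mul_inv_cancel_right])
        rw [this]
      have hgen : ((N.subgroupOf X) ⊔ (S : Subgroup X)) = ⊤ := by
        rw [← Subgroup.index_eq_one]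
        apply Nat.eq_one_of_dvd_coprimes (a := (N.subgroupOf X).index)
          (b := (S : Subgroup X).index)
        · have : IsPGroup 2 (X ⧸ N.subgroupOf X) := by
            intro q
            obtain ⟨z, rfl⟩ := QuotientGroup.mk_surjective q
            obtain ⟨b, hb⟩ := h2el z z.2
            refine ⟨b, ?_⟩
            rw [← QuotientGroup.mk_pow]
            exact (QuotientGroup.eq_one_iff _).mpr (by simpa [Subgroup.mem_subgroupOf] using hb)
          obtain ⟨b, hb⟩ := IsPGroup.iff_card.mp this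
          rw [Subgroup.index_eq_card, hb]
          exact Nat.Coprime.pow_left _
            ((Nat.prime_two.coprime_iff_not_dvd).mpr S.not_dvd_index)
        · exact Subgroup.index_dvd_of_le le_sup_left
        · exact Subgroup.index_dvd_of_le le_sup_right
      have htop : (⊤ : Subgroup X) ≤ Subgroup.normalizer ((S : Subgroup X) : Set X) := by
        rw [← hgen]
        exact sup_le (fun z hz => hsup z hz) Subgroup.le_normalizer
      exact htop (Subgroup.mem_top y)
    have hS1 : (S : Subgroup X) = ⊥ := by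
      have h1 : (S : Subgroup X) ≤ pCore 2 X := PSolvable.le_pCore S.2
      rwa [pCore_normal_eq_bot hcore X, le_bot_iff] at h1
    intro y hy
    obtain ⟨a, ha⟩ := h2el y hy
    -- the order of `y` is odd
    have ho : Nat.Coprime (2 ^ a) (orderOf y) := by
      refine Nat.Coprime.pow_left _ (Nat.prime_two.coprime_iff_not_dvd.mpr fun h2 => ?_)
      have := S.not_dvd_index
      rw [hS1, Subgroup.index_bot] at this
      refine this (h2.trans ?_)
      have := orderOf_dvd_natCard (⟨y, hy⟩ : X)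
      rwa [Subgroup.orderOf_mk] at this
    obtain ⟨m, hm⟩ := exists_pow_eq_self_of_coprime ho
    rw [← hm]
    exact pow_mem ha m
  have hvC : v ∉ C := fun h => hv1' (by
    rw [← Subgroup.mem_bot, ← hVN]; exact ⟨hv, hXeq ⟨hvO, h⟩⟩)
  -- `G = V C`
  have htop : V ⊔ C = ⊤ := by
    by_contra hne
    obtain ⟨r, hrV, hr, hr1⟩ := P.exists_mem_core hne le_sup_left le_rfl P.ne
      (sidki_subgroupOf le_sup_left P.sidki)
    have hcomm := core_commute (H := V ⊔ C) (hNC.trans le_sup_right) (pCore_normal_eq_bot hcore N)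
      (fun h _ l hl => conj_mem_of_normal hN h hl)
    have hrC : r ∈ C := Subgroup.mem_centralizer_iff.mpr fun l hl => (hcomm.2 r hr l hl).symm
    apply hr1
    rw [← Subgroup.mem_bot, ← (core_commute (H := V ⊔ C) le_sup_right (pCore_normal_eq_bot hcore C)
      (fun h _ l hl => conj_mem_of_normal inferInstance h hl)).1]
    exact ⟨hr, hrC⟩
  -- an element of `V` with a nontrivial fixed point on `N` centralises it
  have hcent : ∀ {w n : G}, w ∈ V → n ∈ N → n ≠ 1 → w * n = n * w → w ∈ C := by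
    intro w n hw hn hn1 hwn
    have hD : (N ⊓ Subgroup.centralizer ({w} : Set G)).Normal := by
      rw [← Subgroup.normalizer_eq_top_iff, eq_top_iff, ← htop]
      refine sup_le ?_ ?_
      · intro a ha
        rw [Subgroup.mem_normalizer_iff]
        intro d
        simp only [Subgroup.mem_inf, Subgroup.mem_centralizer_singleton_iff]
        refine and_congr ⟨fun h => conj_mem_of_normal hN a h, fun h => ?_⟩ ?_
        · have := conj_mem_of_normal hN a⁻¹ h
          simpa [mul_assoc] using this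
        · have hwa : w * a = a * w := elem_comm P.elem hw ha
          constructor
          · intro h
            calc a * d * a⁻¹ * w = a * d * (a⁻¹ * w) := by group
              _ = a * d * (w * a⁻¹) := by rw [elem_comm P.elem (inv_mem ha) hw]
              _ = a * (d * w) * a⁻¹ := by group
              _ = a * (w * d) * a⁻¹ := by rw [h]
              _ = a * w * d * a⁻¹ := by group
              _ = w * (a * d * a⁻¹) := by rw [← hwa]; group
          · intro h
            apply mul_left_cancel (a := a)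
            apply mul_right_cancel (b := a⁻¹)
            calc a * (d * w) * a⁻¹ = a * d * (w * a⁻¹) := by group
              _ = a * d * a⁻¹ * w := by rw [← elem_comm P.elem (inv_mem ha) hw]; group
              _ = w * (a * d * a⁻¹) := h
              _ = w * a * d * a⁻¹ := by group
              _ = a * (w * d) * a⁻¹ := by rw [hwa]; group
      · intro a ha
        rw [Subgroup.mem_normalizer_iff]
        intro d
        have hfix : ∀ x ∈ N, a * x * a⁻¹ = x := fun x hx => by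
          rw [← Subgroup.mem_centralizer_iff.mp ha x hx, mul_inv_cancel_right]
        constructor
        · intro h; rwa [hfix d h.1]
        · intro h
          have hd : d ∈ N := by
            have := conj_mem_of_normal hN a⁻¹ h.1
            simpa [mul_assoc] using this
          rwa [hfix d hd] at h
    have h1 : N ⊓ Subgroup.centralizer ({w} : Set G) = N :=
      (hmin _ hD inf_le_left).resolve_left fun e => hn1 (by
        rw [← Subgroup.mem_bot, ← e]
        exact ⟨hn, Subgroup.mem_centralizer_singleton_iff.mpr hwn.symm⟩)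
    refine Subgroup.mem_centralizer_iff.mpr fun x hx => ?_
    exact Subgroup.mem_centralizer_singleton_iff.mp (inf_eq_left.mp h1 hx)
  -- `v` inverts `N`
  have hinv : ∀ n ∈ N, v * n * v⁻¹ = n⁻¹ := by
    intro n hn
    have hm : v * n * v⁻¹ * n ∈ N := mul_mem (conj_mem_of_normal hN v hn) hn
    by_contra hne
    refine hvC (hcent hv hm (fun e => hne (eq_inv_of_mul_eq_one_left e)) ?_)
    have hcm : v * n * v⁻¹ * n = n * (v * n * v⁻¹) :=
      setLike_mul_comm (conj_mem_of_normal hN v hn) hn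
    calc v * (v * n * v⁻¹ * n) = v * (v * n * v⁻¹) * v⁻¹ * (v * n * v⁻¹) * v := by group
      _ = n * (v * n * v⁻¹) * v := by rw [P.vconj hv]
      _ = v * n * v⁻¹ * n * v := by rw [hcm]
  obtain ⟨n₀, hn₀, hn₀1⟩ := N.bot_or_exists_ne_one.resolve_left hN1
  have hKne : V ⊓ C ≠ V := fun e => hvC (inf_eq_left.mp e hv)
  obtain ⟨w₀, hw₀, hw₀1, hw₀c⟩ := P.sidki n₀ v hv (hodd hn₀) (hinv n₀ hn₀)
  have hK1 : V ⊓ C ≠ ⊥ := fun e => hw₀1 (by
    rw [← Subgroup.mem_bot, ← e]; exact ⟨hw₀, hcent hw₀ hn₀ hn₀1 hw₀c⟩)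
  obtain ⟨x, k, hk, hxo, hki, hkw⟩ := P.exists_witness inf_le_left hKne hK1
  have hxC : x ∈ C := mem_of_inverted inferInstance hk.2 hxo hki
  set x' := v * x * v⁻¹ with hx'
  have hx'C : x' ∈ C := conj_mem_of_normal inferInstance v hxC
  set z := x⁻¹ * x' with hz
  have hzN : z ∈ N := by
    refine hXeq ⟨?_, C.mul_mem (C.inv_mem hxC) hx'C⟩
    show π z ∈ pCore 2 (G ⧸ N)
    rw [hz, hx', map_mul, map_mul, map_mul, ← mul_assoc, ← mul_assoc]
    refine mul_mem ?_ ?_
    · have h5 := hQn.conj_mem _ hvO (π x)⁻¹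
      rw [inv_inv] at h5
      rw [map_inv]
      exact h5
    · rw [map_inv]; exact inv_mem hvO
  have hxz : Commute x z := (Subgroup.mem_centralizer_iff.mp hxC z hzN).symm
  have hx'e : x' = x * z := by rw [hz, mul_inv_cancel_left]
  have hxx' : Commute x x' := by rw [hx'e]; exact (Commute.refl x).mul_right hxz
  set x₁ := x * x' with hx₁
  have hx₁C : x₁ ∈ C := mul_mem hxC hx'C
  have hv₁ : v * x₁ * v⁻¹ = x₁ := by
    rw [hx₁, conj_mul.symm, P.vconj hv, ← hxx'.eq]
  have hkv : k * v = v * k := elem_comm P.elem hk.1 hv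
  have hk' : k * x' * k⁻¹ = x'⁻¹ := by
    calc k * x' * k⁻¹ = (k * v) * x * (k * v)⁻¹ := by rw [hx']; group
      _ = (v * k) * x * (v * k)⁻¹ := by rw [hkv]
      _ = v * (k * x * k⁻¹) * v⁻¹ := by group
      _ = x'⁻¹ := by rw [hki, hx']; group
  have hk₁ : k * x₁ * k⁻¹ = x₁⁻¹ := by
    rw [hx₁, conj_mul.symm, hki, hk', ← mul_inv_rev, ← hxx'.eq]
  have hox' : orderOf x' = orderOf x := orderOf_injective (MulAut.conj v).toMonoidHom
    (MulAut.conj v).injective x
  have hx₁o : Odd (orderOf x₁) :=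
    hxo.of_dvd_nat (by simpa [hox'] using hxx'.orderOf_mul_dvd_lcm)
  have hny : Commute n₀ x₁ := Subgroup.mem_centralizer_iff.mp hx₁C n₀ hn₀
  have hyo : Odd (orderOf (n₀ * x₁)) :=
    ((hodd hn₀).mul hx₁o).of_dvd_nat (hny.orderOf_mul_dvd_mul_orderOf)
  have hkn : k * n₀ * k⁻¹ = n₀ := by
    rw [← Subgroup.mem_centralizer_iff.mp hk.2 n₀ hn₀, mul_inv_cancel_right]
  have hyi : v * k * (n₀ * x₁) * (v * k)⁻¹ = (n₀ * x₁)⁻¹ := by
    calc v * k * (n₀ * x₁) * (v * k)⁻¹
        = (v * (k * n₀ * k⁻¹) * v⁻¹) * (v * (k * x₁ * k⁻¹) * v⁻¹) := by group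
      _ = n₀⁻¹ * (v * x₁ * v⁻¹)⁻¹ := by rw [hkn, hk₁, hinv n₀ hn₀, conj_inv]
      _ = n₀⁻¹ * x₁⁻¹ := by rw [hv₁]
      _ = (n₀ * x₁)⁻¹ := by rw [← mul_inv_rev, hny.eq]
  obtain ⟨w, hw, hw1, hwc⟩ := P.sidki _ _ (mul_mem hv hk.1) hyo hyi
  set d := n₀⁻¹ * (w * n₀ * w⁻¹) with hd
  have hdN : d ∈ N := mul_mem (inv_mem hn₀) (conj_mem_of_normal hN w hn₀)
  have hd2 : d = x₁ * (w * x₁ * w⁻¹)⁻¹ := by
    rw [eq_mul_inv_iff_mul_eq, hd, mul_assoc, inv_mul_eq_iff_eq_mul]
    calc w * n₀ * w⁻¹ * (w * x₁ * w⁻¹) = w * (n₀ * x₁) * w⁻¹ := by group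
      _ = n₀ * x₁ := by rw [hwc, mul_inv_cancel_right]
  have hdv : v * d * v⁻¹ = d := by
    have hvw : v * (w * x₁ * w⁻¹) * v⁻¹ = w * x₁ * w⁻¹ := by
      calc v * (w * x₁ * w⁻¹) * v⁻¹ = (v * w) * x₁ * (v * w)⁻¹ := by group
        _ = (w * v) * x₁ * (w * v)⁻¹ := by rw [elem_comm P.elem hv hw]
        _ = w * (v * x₁ * v⁻¹) * w⁻¹ := by group
        _ = w * x₁ * w⁻¹ := by rw [hv₁]
    rw [hd2, conj_mul.symm, hv₁, ← conj_inv, hvw]
  have hd1 : d = 1 := by
    refine hsq hdN ?_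
    have := hinv d hdN
    rw [hdv] at this
    nth_rewrite 1 [this]
    exact inv_mul_cancel d
  have hwn : w * n₀ = n₀ * w := by
    rw [hd, inv_mul_eq_one] at hd1
    exact (mul_inv_eq_iff_eq_mul.mp hd1.symm)
  have hwC := hcent hw hn₀ hn₀1 hwn
  have hwx₁ : Commute w x₁ := by
    have : x₁ * (w * x₁ * w⁻¹)⁻¹ = 1 := hd2 ▸ hd1
    rw [mul_inv_eq_one] at this
    exact mul_inv_eq_iff_eq_mul.mp this.symm
  have hwz : Commute w z := (Subgroup.mem_centralizer_iff.mp hwC z hzN).symm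
  have hwx2 : Commute w (x ^ 2) := by
    have : x ^ 2 = x₁ * z⁻¹ := by rw [hx₁, hx'e, pow_two]; group
    rw [this]
    exact hwx₁.mul_right hwz.inv_right
  have hwx : Commute w x := by
    obtain ⟨m, hm⟩ := hxo
    have : x = (x ^ 2) ^ (m + 1) := by
      rw [← pow_mul, show 2 * (m + 1) = orderOf x + 1 by omega, pow_add, pow_orderOf_eq_one]
      simp
    rw [this]
    exact hwx2.pow_right _
  exact hw1 (hkw w ⟨hw, hwC⟩ hwx.eq)

/-- A noncentral-type minimal normal subgroup supplements `V`. -/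
theorem sup_eq_top {N : Subgroup G} (hN : N.Normal)
    (hZ : N ⊓ Subgroup.centralizer (N : Set G) = ⊥) (hN1 : N ≠ ⊥) : V ⊔ N = ⊤ := by
  by_contra hne
  set C := Subgroup.centralizer (N : Set G) with hC
  have hcore := P.pCore_eq_bot
  obtain ⟨r, hrV, hr, hr1⟩ := P.exists_mem_core hne le_sup_left le_rfl P.ne
    (sidki_subgroupOf le_sup_left P.sidki)
  have hrC : r ∈ C := Subgroup.mem_centralizer_iff.mpr fun l hl =>
    ((core_commute le_sup_right (pCore_normal_eq_bot hcore N)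
      (fun h _ l hl => conj_mem_of_normal hN h hl)).2 r hr l hl).symm
  by_cases hK : V ⊓ C = V
  · have hCtop : C ≠ ⊤ := fun e => hN1 (by rw [← hZ, e, inf_top_eq])
    obtain ⟨s, -, hs, hs1⟩ := P.exists_mem_core hCtop (inf_eq_left.mp hK) le_rfl P.ne
      (sidki_subgroupOf (inf_eq_left.mp hK) P.sidki)
    refine hs1 (Subgroup.mem_bot.mp ?_)
    obtain ⟨s', hs', rfl⟩ := hs
    rw [pCore_normal_eq_bot hcore C] at hs'
    rw [Subgroup.mem_bot.mp hs']
    simp
  have hK1 : V ⊓ C ≠ ⊥ := fun e => hr1 (by rw [← Subgroup.mem_bot, ← e]; exact ⟨hrV, hrC⟩)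
  obtain ⟨h, v, hv, ho, hi, hwit⟩ := P.exists_witness inf_le_left hK hK1
  have hhC : h ∈ C := mem_of_inverted inferInstance hv.2 ho hi
  set U := V ⊓ Subgroup.centralizer ({h} : Set G) with hU
  have hU1 : U ≠ ⊥ := by
    obtain ⟨w, hw, hw1, hwc⟩ := P.sidki h v hv.1 ho hi
    exact fun e => hw1 (by
      rw [← Subgroup.mem_bot, ← e]
      exact ⟨hw, Subgroup.mem_centralizer_singleton_iff.mpr hwc⟩)
  set H := N ⊔ U with hH
  have hHne : H ≠ ⊤ := fun e => hne (top_le_iff.mp (e ▸ sup_le le_sup_right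
    (inf_le_left.trans le_sup_left)))
  have hsid : IsSidkiPair (U.subgroupOf H) := by
    rintro ⟨k, hkH⟩ ⟨u, _⟩ hu hko hki
    rw [Subgroup.orderOf_mk] at hko
    replace hu : u ∈ U := hu
    replace hki : u * k * u⁻¹ = k⁻¹ := congrArg Subtype.val hki
    have hkN : k ∈ N := by
      obtain ⟨n, hn, u', hu', rfl⟩ := Subgroup.mem_sup_of_normal_left.mp hkH
      refine mem_of_sq_mem hko ?_
      have : (n * u') ^ 2 = n * (u' * n * u'⁻¹) * (u' * u') := by rw [pow_two]; group
      rw [this, elem_sq P.elem hu'.1, mul_one]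
      exact mul_mem hn (conj_mem_of_normal hN u' hn)
    have hhk : Commute h k := (Subgroup.mem_centralizer_iff.mp hhC k hkN).symm
    have hvk : v * k * v⁻¹ = k := by
      rw [← Subgroup.mem_centralizer_iff.mp hv.2 k hkN, mul_inv_cancel_right]
    have huh : u * h * u⁻¹ = h := by
      rw [Subgroup.mem_centralizer_singleton_iff.mp hu.2, mul_inv_cancel_right]
    have hi' : v * u * (h * k) * (v * u)⁻¹ = (h * k)⁻¹ := by
      calc v * u * (h * k) * (v * u)⁻¹
          = (v * (u * h * u⁻¹) * v⁻¹) * (v * (u * k * u⁻¹) * v⁻¹) := by group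
        _ = h⁻¹ * k⁻¹ := by rw [huh, hki, hi, ← conj_inv, hvk]
        _ = (h * k)⁻¹ := by rw [← mul_inv_rev, hhk.eq]
    obtain ⟨w, hw, hw1, hwc⟩ := P.sidki _ _ (mul_mem hv.1 hu.1)
      ((ho.mul hko).of_dvd_nat hhk.orderOf_mul_dvd_mul_orderOf) hi'
    have hd : h⁻¹ * (w * h * w⁻¹) = k * (w * k * w⁻¹)⁻¹ := by
      rw [eq_mul_inv_iff_mul_eq, mul_assoc, inv_mul_eq_iff_eq_mul]
      calc w * h * w⁻¹ * (w * k * w⁻¹) = w * (h * k) * w⁻¹ := by group
        _ = h * k := by rw [hwc, mul_inv_cancel_right]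
    have hd1 : h⁻¹ * (w * h * w⁻¹) = 1 := by
      rw [← Subgroup.mem_bot, ← hZ]
      refine ⟨?_, C.mul_mem (C.inv_mem hhC) (conj_mem_of_normal inferInstance w hhC)⟩
      rw [hd]
      exact N.mul_mem hkN (N.inv_mem (conj_mem_of_normal hN w hkN))
    have hwh : w * h = h * w := mul_inv_eq_iff_eq_mul.mp (inv_mul_eq_one.mp hd1).symm
    have hwk : w * k = k * w := by
      rw [hd1] at hd
      exact mul_inv_eq_iff_eq_mul.mp (mul_inv_eq_one.mp hd.symm).symm
    have hwU : w ∈ U := ⟨hw, Subgroup.mem_centralizer_singleton_iff.mpr hwh⟩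
    exact ⟨⟨w, le_sup_right (a := N) hwU⟩, hwU, fun e => hw1 (congrArg Subtype.val e),
      Subtype.ext hwk⟩
  obtain ⟨s, hsU, hs, hs1⟩ := P.exists_mem_core hHne le_sup_right inf_le_left hU1 hsid
  refine hs1 (hwit s ⟨hsU.1, Subgroup.mem_centralizer_iff.mpr fun l hl => ?_⟩
    (Subgroup.mem_centralizer_singleton_iff.mp hsU.2))
  exact ((core_commute (H := H) le_sup_left (pCore_normal_eq_bot hcore N)
    (fun h _ l hl => conj_mem_of_normal hN h hl)).2 s hs l hl).symm

/-- There is a unique minimal normal subgroup; it is simple, supplements `V` and has trivial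
centraliser. -/
theorem exists_simple : ∃ N : Subgroup G, N.Normal ∧ IsSimpleGroup N ∧ ¬ IsMulCommutative N ∧
    V ⊔ N = ⊤ ∧ Subgroup.centralizer (N : Set G) = ⊥ := by
  have hcore := P.pCore_eq_bot
  have htop : (⊤ : Subgroup G) ≠ ⊥ := fun e => P.ne (le_bot_iff.mp (e ▸ le_top))
  obtain ⟨N, hN, hN1, -, hmin⟩ := MinimalNormal.exists_minimal_normal_le
    (M := (⊤ : Subgroup G)) inferInstance htop
  have hcenter : ∀ M : Subgroup G, M.Normal → M ≠ ⊥ →
      (∀ L : Subgroup G, L.Normal → L ≤ M → L = ⊥ ∨ L = M) →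
      M ⊓ Subgroup.centralizer (M : Set G) = ⊥ := by
    intro M hM hM1 hMmin
    refine (hMmin _ inferInstance inf_le_left).resolve_right fun e => P.not_comm hM hM1 hMmin ?_
    exact ⟨⟨fun a b => Subtype.ext
      (Subgroup.mem_centralizer_iff.mp (inf_eq_left.mp e b.2) a a.2)⟩⟩
  have hZ := hcenter N hN hN1 hmin
  have hVN := P.sup_eq_top hN hZ hN1
  have hC : Subgroup.centralizer (N : Set G) = ⊥ := by
    by_contra hC
    obtain ⟨M, hM, hM1, hMC, hMmin⟩ :=
      MinimalNormal.exists_minimal_normal_le (M := Subgroup.centralizer (N : Set G)) inferInstance hC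
    refine P.not_comm hM hM1 hMmin ⟨⟨fun a b => ?_⟩⟩
    have hsq : ∀ g : M, g * g = 1 := by
      intro g
      refine Subtype.ext (Subgroup.mem_bot.mp ?_)
      rw [← hZ]
      refine ⟨?_, hMC (g * g).2⟩
      obtain ⟨n, hn, u, hu, he⟩ := Subgroup.mem_sup_of_normal_left.mp
        (show (g : G) ∈ N ⊔ V by rw [sup_comm, hVN]; exact Subgroup.mem_top _)
      have : ((g * g : M) : G) = n * (u * n * u⁻¹) * (u * u) := by
        rw [Subgroup.coe_mul, ← he]; group
      rw [this, elem_sq P.elem hu, mul_one]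
      exact mul_mem hn (conj_mem_of_normal hN u hn)
    have hi : ∀ g : M, g⁻¹ = g := fun g => inv_eq_of_mul_eq_one_right (hsq g)
    rw [← hi (a * b), mul_inv_rev, hi, hi]
  refine ⟨N, hN, ?_, P.not_comm hN hN1 hmin, hVN, hC⟩
  have : Nontrivial N := (Subgroup.nontrivial_iff_ne_bot N).mpr hN1
  have htopN : (⊤ : Subgroup N) ≠ ⊥ := top_ne_bot
  obtain ⟨S', hS', hS'1, -, hS'min⟩ := MinimalNormal.exists_minimal_normal_le
    (M := (⊤ : Subgroup N)) inferInstance htopN
  suffices hST : S' = ⊤ by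
    exact ⟨fun K hK => (hS'min K hK (hST ▸ le_top)).imp id fun h => h.trans hST⟩
  set S := S'.map N.subtype with hSdef
  have hSN : S ≤ N := Subgroup.map_subtype_le _
  have hS1 : S ≠ ⊥ := by
    rwa [hSdef, Ne, Subgroup.map_eq_bot_iff_of_injective _ N.subtype_injective]
  have hnS : ∀ n ∈ N, ∀ s ∈ S, n * s * n⁻¹ ∈ S := by
    rintro n hn _ ⟨s, hs, rfl⟩
    exact ⟨⟨n, hn⟩ * s * ⟨n, hn⟩⁻¹, hS'.conj_mem s hs _, by simp⟩
  have hSmin : ∀ T : Subgroup G, T ≤ S → (∀ n ∈ N, ∀ t ∈ T, n * t * n⁻¹ ∈ T) →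
      T = ⊥ ∨ T = S := by
    intro T hT hTn
    have hTn' : (T.subgroupOf N).Normal := ⟨fun t ht g => by
      simpa [Subgroup.mem_subgroupOf] using hTn g g.2 _ ht⟩
    have hle : T.subgroupOf N ≤ S' := by
      intro t ht
      obtain ⟨t', ht', e⟩ := hT ht
      rwa [← Subtype.ext (a2 := t) e]
    rcases hS'min _ hTn' hle with h | h
    · exact Or.inl ((Subgroup.subgroupOf_eq_bot.mp h).eq_bot_of_le (hT.trans hSN))
    · right
      rw [hSdef, ← h, Subgroup.map_subgroupOf_eq_of_le (hT.trans hSN)]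
  have hScore : pCore 2 S = ⊥ := by
    have h1 : pCore 2 (S.subgroupOf N) = ⊥ := by
      have : (S.subgroupOf N).Normal := ⟨fun t ht g => by
        simpa [Subgroup.mem_subgroupOf] using hnS g g.2 _ ht⟩
      exact pCore_normal_eq_bot (pCore_normal_eq_bot hcore N) _
    rw [← PSolvable.map_pCore_equiv (Subgroup.subgroupOfEquivOfLe hSN), h1, Subgroup.map_bot]
  by_contra hST
  -- `S` is a proper factor
  have hSne : S ≠ N := fun e => hST (by
    apply Subgroup.map_injective N.subtype_injective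
    rw [← hSdef, e, ← MonoidHom.range_eq_map, Subgroup.range_subtype])
  set V₁ := V ⊓ Subgroup.normalizer (S : Set G) with hV₁
  have hNnorm : N ≤ Subgroup.normalizer (S : Set G) := by
    intro n hn
    rw [Subgroup.mem_normalizer_iff]
    exact fun s => ⟨hnS n hn s, fun h => by simpa [mul_assoc] using hnS n⁻¹ (inv_mem hn) _ h⟩
  obtain ⟨v, hv, hvS⟩ : ∃ v ∈ V, v ∉ Subgroup.normalizer (S : Set G) := by
    by_contra hall
    push Not at hall
    have : S.Normal := by
      rw [← Subgroup.normalizer_eq_top_iff, eq_top_iff, ← hVN]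
      exact sup_le hall hNnorm
    exact (hmin S this hSN).elim hS1 hSne
  -- a conjugate of `S` by an element outside the normaliser commutes with it
  have hconjS : ∀ u ∈ V, u ∉ Subgroup.normalizer (S : Set G) →
      ∀ s ∈ S, (∀ t ∈ S, u * t * u⁻¹ * s = s * (u * t * u⁻¹)) ∧
        (u * s * u⁻¹ ∈ S → s = 1) := by
    intro u hu huS s hs
    set T := S.map (MulAut.conj u).toMonoidHom with hT
    have hTn : ∀ n ∈ N, ∀ t ∈ T, n * t * n⁻¹ ∈ T := by
      rintro n hn _ ⟨t, ht, rfl⟩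
      refine ⟨(u⁻¹ * n * u) * t * (u⁻¹ * n * u)⁻¹, hnS _ ?_ t ht, ?_⟩
      · simpa using conj_mem_of_normal hN u⁻¹ hn
      · simp only [MulEquiv.coe_toMonoidHom, MulAut.conj_apply]; group
    have hdis : S ⊓ T = ⊥ := by
      refine (hSmin _ inf_le_left fun n hn t ht => ⟨hnS n hn t ht.1, hTn n hn t ht.2⟩).resolve_right ?_
      intro e
      apply huS
      have hle : S ≤ T := inf_eq_left.mp e
      have heq : S = T := Subgroup.eq_of_le_of_card_ge hle (by
        rw [hT, Subgroup.card_map_of_injective (MulAut.conj u).injective])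
      rw [Subgroup.mem_normalizer_iff]
      intro x
      conv_rhs => rw [heq, hT]
      constructor
      · exact fun hx => ⟨x, hx, rfl⟩
      · rintro ⟨y, hy, e⟩
        rwa [← (MulAut.conj u).injective e]
    have hTN : T ≤ N := by
      rintro _ ⟨t, ht, rfl⟩
      exact conj_mem_of_normal hN u (hSN ht)
    refine ⟨fun t ht => ?_, fun h => ?_⟩
    · have hm : u * t * u⁻¹ ∈ T := ⟨t, ht, rfl⟩
      set a := u * t * u⁻¹
      have : a * s * a⁻¹ * s⁻¹ ∈ S ⊓ T := by
        refine ⟨S.mul_mem (hnS a (hTN hm) s hs) (S.inv_mem hs), ?_⟩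
        rw [mul_assoc a, mul_assoc]
        exact T.mul_mem hm (hTn s (hSN hs) _ (T.inv_mem hm))
      rw [hdis, Subgroup.mem_bot] at this
      exact mul_inv_eq_iff_eq_mul.mp (mul_inv_eq_one.mp this)
    · have : u * s * u⁻¹ ∈ S ⊓ T := ⟨h, s, hs, rfl⟩
      rw [hdis, Subgroup.mem_bot] at this
      simpa using this
  have hScent : ∀ s ∈ S, (∀ t ∈ S, t * s = s * t) → s = 1 := by
    intro s hs hst
    refine Subgroup.mem_bot.mp ?_
    rw [← hC]
    -- the centraliser of `s` contains every conjugate of `S`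
    have hncl : Subgroup.normalClosure (S : Set G) = N :=
      (hmin _ inferInstance (Subgroup.normalClosure_le_normal hSN)).resolve_left fun e =>
        hS1 (le_bot_iff.mp (e ▸ Subgroup.le_normalClosure))
    rw [Subgroup.mem_centralizer_iff]
    suffices h : Subgroup.normalClosure (S : Set G) ≤ Subgroup.centralizer ({s} : Set G) by
      intro x hx
      exact Subgroup.mem_centralizer_singleton_iff.mp (h (hncl.symm ▸ hx))
    rw [Subgroup.normalClosure, Subgroup.closure_le]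
    intro x hx
    obtain ⟨t, ht, hc⟩ := Group.mem_conjugatesOfSet_iff.mp hx
    obtain ⟨g, rfl⟩ := isConj_iff.mp hc
    obtain ⟨u, hu, n, hn, rfl⟩ := Subgroup.mem_sup_of_normal_right.mp
      (show g ∈ V ⊔ N by rw [hVN]; exact Subgroup.mem_top g)
    refine Subgroup.mem_centralizer_singleton_iff.mpr ?_
    rw [show u * n * t * (u * n)⁻¹ = u * (n * t * n⁻¹) * u⁻¹ by group]
    by_cases huS : u ∈ Subgroup.normalizer (S : Set G)
    · exact hst _ ((Subgroup.mem_normalizer_iff.mp huS _).mp (hnS n hn t ht))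
    · exact (hconjS u hu huS s hs).1 _ (hnS n hn t ht)
  obtain ⟨h₁, hh₁, hh₁o, hh₁1⟩ : ∃ h ∈ S, Odd (orderOf h) ∧ h ≠ 1 := by
    by_contra hno
    push Not at hno
    refine hS1 (eq_bot_of_normalized hScore le_rfl (fun x => ?_)
      fun l hl t ht => mul_mem (mul_mem hl ht) (inv_mem hl))
    obtain ⟨a, r, hr, har⟩ := Nat.exists_eq_two_pow_mul_odd (orderOf_pos (x : G)).ne'
    refine ⟨a, Subtype.ext (hno _ (pow_mem x.2 _) ?_)⟩
    exact hr.of_dvd_nat (orderOf_dvd_of_pow_eq_one (by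
      rw [Subgroup.coe_pow, ← pow_mul, ← har, pow_orderOf_eq_one]))
  by_cases hV₁1 : V₁ = ⊥
  · set g := v * h₁⁻¹ * v⁻¹ with hg
    have hcomm : Commute h₁ g := ((hconjS v hv hvS h₁ hh₁).1 _ (inv_mem hh₁)).symm
    have hgo : orderOf g = orderOf h₁ :=
      (orderOf_injective (MulAut.conj v).toMonoidHom (MulAut.conj v).injective h₁⁻¹).trans
        (orderOf_inv h₁)
    have hi : v * (h₁ * g) * v⁻¹ = (h₁ * g)⁻¹ := by
      rw [← conj_mul, hg, P.vconj hv, mul_inv_rev, ← conj_inv, inv_inv]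
    have ho : Odd (orderOf (h₁ * g)) :=
      hh₁o.of_dvd_nat (by simpa [hgo] using hcomm.orderOf_mul_dvd_lcm)
    obtain ⟨w, hw, hw1, hwc⟩ := P.sidki _ v hv ho hi
    have hout : ∀ u ∈ V, u ≠ 1 → u ∉ Subgroup.normalizer (S : Set G) := fun u hu hu1 h =>
      hu1 (by rw [← Subgroup.mem_bot, ← hV₁1]; exact ⟨hu, h⟩)
    have hfix : w * (h₁ * g) * w⁻¹ = h₁ * g := by rw [hwc, mul_inv_cancel_right]
    by_cases hwv : w = v
    · subst hwv
      rw [hi] at hfix
      have h2 : (h₁ * g) * (h₁ * g) = 1 := by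
        nth_rewrite 1 [← hfix]
        exact inv_mul_cancel _
      obtain ⟨m, hm⟩ := ho
      have h1 : h₁ * g = 1 := by
        calc h₁ * g = (h₁ * g) ^ (2 * m + 1) := by
              rw [pow_succ, pow_mul, pow_two, h2, one_pow, one_mul]
          _ = 1 := by rw [← hm, pow_orderOf_eq_one]
      refine hh₁1 (inv_eq_one.mp ((hconjS w hv hvS _ (inv_mem hh₁)).2 ?_))
      rw [show w * h₁⁻¹ * w⁻¹ = g from rfl, eq_inv_of_mul_eq_one_right h1]
      exact inv_mem hh₁
    · have hwv' : w * v ∈ V := mul_mem hw hv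
      have hwv1 : w * v ≠ 1 := fun e => hwv (by
        rw [eq_inv_of_mul_eq_one_left e, P.inv_eq hv])
      refine hh₁1 (hScent h₁ hh₁ fun t ht => ?_)
      -- `h₁ * g` commutes with `t`
      have e1 : Commute (w * h₁ * w⁻¹) t := (hconjS w hw (hout w hw hw1) t ht).1 h₁ hh₁
      have e2 : Commute (w * g * w⁻¹) t := by
        rw [hg, show w * (v * h₁⁻¹ * v⁻¹) * w⁻¹ = (w * v) * h₁⁻¹ * (w * v)⁻¹ by group]
        exact (hconjS _ hwv' (hout _ hwv' hwv1) t ht).1 _ (inv_mem hh₁)
      have e3 : Commute (h₁ * g) t := by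
        rw [← hfix, ← conj_mul]; exact e1.mul_left e2
      have e4 : Commute g t := (hconjS v hv hvS t ht).1 _ (inv_mem hh₁)
      have e5 : Commute (h₁ * g * g⁻¹) t := e3.mul_left e4.inv_left
      rw [mul_inv_cancel_right] at e5
      exact e5.eq.symm
  · set H := S ⊔ V₁ with hH
    have hHn : H ≤ Subgroup.normalizer (S : Set G) := sup_le Subgroup.le_normalizer inf_le_right
    have hHne : H ≠ ⊤ := fun e => hvS (hHn (e ▸ Subgroup.mem_top v))
    by_cases hsid : IsSidkiPair (V₁.subgroupOf H)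
    · obtain ⟨r, hrV, hr, hr1⟩ := P.exists_mem_core hHne le_sup_right inf_le_left hV₁1 hsid
      have hrS := (core_commute (H := H) le_sup_left hScore
        fun h hh l hl => (Subgroup.mem_normalizer_iff.mp (hHn hh) l).mp hl).2 r hr
      -- `r` centralises every conjugate of `S`
      refine hr1 (Subgroup.mem_bot.mp (hC ▸ ?_))
      have hncl : Subgroup.normalClosure (S : Set G) = N :=
        (hmin _ inferInstance (Subgroup.normalClosure_le_normal hSN)).resolve_left fun e =>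
          hS1 (le_bot_iff.mp (e ▸ Subgroup.le_normalClosure))
      rw [Subgroup.mem_centralizer_iff]
      suffices h : Subgroup.normalClosure (S : Set G) ≤ Subgroup.centralizer ({r} : Set G) by
        intro x hx
        exact Subgroup.mem_centralizer_singleton_iff.mp (h (hncl.symm ▸ hx))
      rw [Subgroup.normalClosure, Subgroup.closure_le]
      intro x hx
      obtain ⟨t, ht, hc⟩ := Group.mem_conjugatesOfSet_iff.mp hx
      obtain ⟨g, rfl⟩ := isConj_iff.mp hc
      obtain ⟨u, hu, n, hn, rfl⟩ := Subgroup.mem_sup_of_normal_right.mp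
        (show g ∈ V ⊔ N by rw [hVN]; exact Subgroup.mem_top g)
      refine Subgroup.mem_centralizer_singleton_iff.mpr ?_
      rw [show u * n * t * (u * n)⁻¹ = u * (n * t * n⁻¹) * u⁻¹ by group]
      set t' := n * t * n⁻¹ with ht'
      have c1 : Commute r u := elem_comm P.elem hrV.1 hu
      have c2 : Commute r t' := hrS t' (hnS n hn t ht)
      exact ((c1.mul_right c2).mul_right c1.inv_right).eq.symm
    · simp only [IsSidkiPair, not_forall] at hsid
      obtain ⟨⟨h, hhH⟩, ⟨a, _⟩, ha, ho, hi, hwit⟩ := hsid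
      rw [Subgroup.orderOf_mk] at ho
      replace ha : a ∈ V₁ := ha
      replace hi : a * h * a⁻¹ = h⁻¹ := congrArg Subtype.val hi
      have hhS : h ∈ S := by
        refine mem_of_sq_mem ho ?_
        obtain ⟨n, hn, u', hu', rfl⟩ := Set.mem_mul.mp (show h ∈ (S : Set G) * (V₁ : Set G) by
          rw [← Subgroup.coe_mul_of_right_le_normalizer_left S V₁ inf_le_right]
          exact hhH)
        have : (n * u') ^ 2 = n * (u' * n * u'⁻¹) * (u' * u') := by rw [pow_two]; group
        show (n * u') ^ 2 ∈ S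
        rw [this, elem_sq P.elem hu'.1, mul_one]
        exact mul_mem hn ((Subgroup.mem_normalizer_iff.mp hu'.2 n).mp hn)
      obtain ⟨w, hw, hw1, hwc⟩ := P.sidki h a ha.1 ho hi
      have hwS : w ∈ Subgroup.normalizer (S : Set G) := by
        by_contra hwS
        have h1 : h = 1 := (hconjS w hw hwS h hhS).2 (by rw [hwc, mul_inv_cancel_right]; exact hhS)
        apply hwit
        obtain ⟨z, hz, hz1⟩ := V₁.bot_or_exists_ne_one.resolve_left hV₁1
        exact ⟨⟨z, le_sup_right (a := S) hz⟩, hz, fun e => hz1 (congrArg Subtype.val e),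
          Subtype.ext (by simp [h1])⟩
      exact hwit ⟨⟨w, le_sup_right (a := S) ⟨hw, hwS⟩⟩, ⟨hw, hwS⟩,
        fun e => hw1 (congrArg Subtype.val e), Subtype.ext hwc⟩

end Hyp

end Cfsg.Agent.Lib.SidkiMinimal
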